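import Groth.Agent.LC.Sop
import Groth.Agent.LC.GorLoc
import Groth.Agent.CohenLib.Structure
import Groth.Agent.H23.KoszulTor

/-!
# Sequences of expected height in Cohen–Macaulay local rings
-/

set_option autoImplicit false

universe u

open IsLocalRing RingTheory.Sequence CategoryTheory CategoryTheory.Limits

namespace Groth.Agent.CMInter

/-- In a Cohen–Macaulay local ring a sequence generating an ideal of height at least its length is weakly regular. -/
theorem isWeaklyRegular_of_le_height {R : Type u} [CommRing R] [LocCoh.IsCohenMacaulayLocalRing R] (l : List R)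
    (hl : ∀ r ∈ l, r ∈ maximalIdeal R)
    (hht : ∀ q : Ideal R, q.IsPrime → Ideal.ofList l ≤ q → (l.length : ℕ∞) ≤ q.height) :
    IsWeaklyRegular R l := by
  classical
  have hCM : LocCoh.IsCohenMacaulayModule R R := LocCoh.IsCohenMacaulayLocalRing.supportDim_eq_depth
  have hI : Ideal.ofList l ≤ maximalIdeal R := Ideal.span_le.2 hl
  have hI' : Ideal.ofList l ≠ ⊤ := ne_top_of_le_ne_top (maximalIdeal.isMaximal R).ne_top hI
  have : Nontrivial (R ⧸ Ideal.ofList l) := Ideal.Quotient.nontrivial_iff.2 hI'
  have : IsLocalRing (R ⧸ Ideal.ofList l) := IsLocalRing.of_surjective' _ Ideal.Quotient.mk_surjective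
  obtain ⟨e, t, ht, he, hrad⟩ := CohenLib.exists_fin_sop (R ⧸ Ideal.ofList l)
  choose s hs using fun i => Ideal.Quotient.mk_surjective (t i)
  obtain ⟨D, -, -, hD, -⟩ := CohenLib.exists_fin_sop R
  have hmap : (maximalIdeal R).map (Ideal.Quotient.mk (Ideal.ofList l)) = maximalIdeal (R ⧸ Ideal.ofList l) :=
    map_maximalIdeal_of_surjective _ Ideal.Quotient.mk_surjective
  have hsm : ∀ i, s i ∈ maximalIdeal R := fun i => by
    have h1 := ht i
    rw [← hs, ← hmap, ← Ideal.mem_comap, Ideal.comap_map_of_surjective' _ Ideal.Quotient.mk_surjective,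
      Ideal.mk_ker, sup_eq_left.2 hI] at h1
    exact h1
  let l' := l ++ List.ofFn s
  have hl' : ∀ r ∈ l', r ∈ maximalIdeal R := fun r hr => by
    rcases List.mem_append.1 hr with h | h
    · exact hl r h
    · obtain ⟨i, rfl⟩ := List.mem_ofFn.1 h
      exact hsm i
  have hrad' : (Ideal.ofList l').radical = maximalIdeal R := by
    refine le_antisymm ((maximalIdeal.isMaximal R).isPrime.radical_le_iff.2 (Ideal.span_le.2 hl')) fun a ha => ?_
    obtain ⟨k, hk⟩ := hrad (hmap.le (Ideal.mem_map_of_mem (Ideal.Quotient.mk (Ideal.ofList l)) ha))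
    refine ⟨k, ?_⟩
    rw [← map_pow, show t = Ideal.Quotient.mk (Ideal.ofList l) ∘ s from funext fun i => (hs i).symm,
      Set.range_comp, ← Ideal.map_span, ← Ideal.mem_comap,
      Ideal.comap_map_of_surjective' _ Ideal.Quotient.mk_surjective, Ideal.mk_ker, sup_comm] at hk
    rwa [show l' = l ++ List.ofFn s from rfl, Ideal.ofList_append,
      show Ideal.ofList (List.ofFn s) = Ideal.span (Set.range s) from
        congrArg Ideal.span (Set.ext fun x => List.mem_ofFn)]
  have hht' : (l.length : ℕ∞) ≤ (Ideal.ofList l).height := by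
    rw [Ideal.height_eq_inf_minimalPrimes]
    exact le_iInf₂ fun q hq => hht q hq.isPrime hq.le
  have hD1 : e + l.length ≤ D := by
    have h := LC.height_add_ringKrullDim_quotient (Ideal.ofList l) hI'
    rw [he, hD] at h
    obtain ⟨m, hm⟩ : ∃ m : ℕ, (Ideal.ofList l).height = m :=
      ⟨_, (ENat.natCast_toNat (Ideal.height_ne_top hI')).symm⟩
    rw [hm] at h hht'
    have h1 : e + m = D := by exact_mod_cast h
    have h2 : l.length ≤ m := by exact_mod_cast hht'
    omega
  have hD2 : D ≤ e + l.length := by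
    have h := LC.ringKrullDim_quotient_le_card (⊥ : Ideal R) l'.toFinset bot_ne_top (by
      rw [bot_sup_eq, List.coe_toFinset]
      exact hrad')
    rw [ringKrullDim_eq_of_ringEquiv (RingEquiv.quotientBot R), hD] at h
    have h1 : D ≤ l'.toFinset.card := by exact_mod_cast h
    exact h1.trans ((List.toFinset_card_le _).trans (by simp [l']; omega))
  exact ((isWeaklyRegular_append_iff R l (List.ofFn s)).1 (LC.isWeaklyRegular_of_sop hCM D hD l' (by simp [l']; omega) hrad')).1

/-- `Tor` in positive degrees of the quotients by two halves of a regular sequence vanishes. -/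
theorem subsingleton_tor_of_isWeaklyRegular {A : Type u} [CommRing A] (ys zs : List A)
    (hy : IsWeaklyRegular A ys) (h : IsWeaklyRegular A (zs ++ ys)) (i : ℕ) (hi : 0 < i) :
    Subsingleton (DRing.Tor A i (A ⧸ Ideal.ofList ys) (A ⧸ Ideal.ofList zs)) := by
  let N := ModuleCat.of A (A ⧸ Ideal.ofList zs)
  have hN : IsWeaklyRegular N ys := (LinearEquiv.isWeaklyRegular_congr
    (Submodule.quotEquivOfEq _ _ (by rw [smul_eq_mul, Ideal.mul_top])) ys).1
      ((isWeaklyRegular_append_iff A zs ys).1 h).2
  obtain ⟨e⟩ := H23.KoszulTor.nonempty_tor_quot_iso ys hy N i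
  obtain ⟨e'⟩ := GrLib8.KChi.nonempty_tensor_iso N ys
  exact ModuleCat.subsingleton_of_isZero (((Koszul15.isZero_homology_of_isWeaklyRegular ys N hN (-(i : ℤ))
    (by omega)).of_iso (HomologicalComplex.homologyMapIso e' _)).of_iso e)

end Groth.Agent.CMInter
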