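import Groth.Agent.CMInter.Basic
import Groth.Agent.CMClosed.Basic
import Groth.Agent.KRegLib.Regular
import Groth.Agent.ModPairLib.Basic
import Groth.Agent.H23.ChiAdd
import Groth.Agent.S2428
import Groth.Prelude.Def_RegImm
import Mathlib.RingTheory.TensorProduct.Quotient

/-!
# Regular immersions of expected codimension in Cohen–Macaulay schemes
-/

set_option autoImplicit false

universe u

open CategoryTheory CategoryTheory.Limits AlgebraicGeometry IsLocalRing RingTheory.Sequence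

namespace Groth.Agent.CMInter

variable {X Y Z : Scheme.{u}}

theorem ideal_ker_inter (iY : Y ⟶ X) (iZ : Z ⟶ X) [IsClosedImmersion iY] [IsClosedImmersion iZ]
    (U : X.Opens) (hU : IsAffineOpen U) :
    RingHom.ker ((pullback.fst iY iZ ≫ iY).app U).hom =
      RingHom.ker (iY.app U).hom ⊔ RingHom.ker (iZ.app U).hom := by
  rw [← Scheme.Hom.ker_apply (pullback.fst iY iZ ≫ iY) ⟨U, hU⟩, Scheme.Hom.ker_comp,
    Scheme.IdealSheafData.ker_fst_of_isClosedImmersion, Scheme.IdealSheafData.ideal_map_of_isAffineHom,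
    ModPairLib.ideal_comap iZ.ker iY ⟨U, hU⟩ ⟨_, hU.preimage iY⟩ le_rfl, ← Scheme.Hom.app_eq_appLE,
    Scheme.Hom.ker_apply, Ideal.comap_map_of_surjective' _ (iY.app_surjective U hU), sup_comm]

/-- Membership in the range of a closed immersion in terms of the ideal on an affine open. -/
theorem mem_range_iff (i : Z ⟶ X) [IsClosedImmersion i] {U : X.Opens} (hU : IsAffineOpen U)
    (p : PrimeSpectrum Γ(X, U)) :
    hU.fromSpec p ∈ Set.range i ↔ RingHom.ker (i.app U).hom ≤ p.asIdeal := by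
  have hmem : hU.fromSpec p ∈ U := hU.range_fromSpec.le ⟨p, rfl⟩
  have h1 : hU.fromSpec p ∈ i.ker.support ↔ hU.fromSpec p ∈ Set.range i := by
    rw [← SetLike.mem_coe, Scheme.Hom.support_ker, i.isClosedEmbedding.isClosed_range.closure_eq]
  rw [← h1, Scheme.IdealSheafData.mem_support_iff_of_mem (U := ⟨U, hU⟩) hmem,
    Scheme.Hom.ker_apply]
  exact (iff_of_eq (congrArg (p ∈ ·) (hU.fromSpec_preimage_zeroLocus _))).trans
    ((PrimeSpectrum.mem_zeroLocus p _).trans SetLike.coe_subset_coe)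

/-- The ideal of a regular immersion in the stalk at a point. -/
theorem exists_stalk_seq (i : Z ⟶ X) [IsClosedImmersion i] {a : ℕ}
    (h : RegImm.IsRegularImmersionOfCodim RegImm.Kind.regular a i) {U : X.Opens} (hU : IsAffineOpen U)
    {x : X} (hxU : x ∈ U) (hx : x ∈ Set.range i) :
    ∃ ys : List (X.presheaf.stalk x), ys.length = a ∧
      (RingHom.ker (i.app U).hom).map (X.presheaf.germ U x hxU).hom = Ideal.ofList ys := by
  obtain ⟨z, rfl⟩ := hx
  obtain ⟨U₁, hz, -, rs, hlen, -, hker⟩ := h.2 z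
  obtain ⟨U₃, hU₃, hz₃, hle⟩ := exists_isAffineOpen_mem_and_subset (U := U ⊓ U₁.1) ⟨hxU, hz⟩
  have key : ∀ (V : X.affineOpens) (hzV : i z ∈ V.1) (hle' : U₃ ≤ V.1),
      (RingHom.ker (i.app V.1).hom).map (X.presheaf.germ V.1 (i z) hzV).hom =
        (i.ker.ideal ⟨U₃, hU₃⟩).map (X.presheaf.germ U₃ (i z) hz₃).hom := fun V hzV hle' => by
    rw [← i.ker.map_ideal (U := ⟨U₃, hU₃⟩) (V := V) hle', Scheme.Hom.ker_apply, Ideal.map_map,
      ← CommRingCat.hom_comp]
    exact congrArg (fun φ : _ ⟶ X.presheaf.stalk (i z) => Ideal.map φ.hom _)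
      (X.presheaf.germ_res (homOfLE hle') (i z) hz₃).symm
  refine ⟨rs.map (X.presheaf.germ U₁.1 (i z) hz).hom, by rw [List.length_map, hlen], ?_⟩
  rw [← Ideal.map_ofList, ← hker]
  exact (key ⟨U, hU⟩ hxU (hle.trans inf_le_left)).trans (key U₁ hz (hle.trans inf_le_right)).symm

/-- Ideals of the two immersions in the local ring at a prime of an affine open over their intersection. -/
theorem exists_seqs [IsLocallyNoetherian X]
    (hCM : ∀ x : X, LocCoh.IsCohenMacaulayLocalRing (X.presheaf.stalk x))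
    (iY : Y ⟶ X) (iZ : Z ⟶ X) [IsClosedImmersion iY] [IsClosedImmersion iZ] {a b : ℕ}
    (hY : RegImm.IsRegularImmersionOfCodim RegImm.Kind.regular a iY)
    (hZ : RegImm.IsRegularImmersionOfCodim RegImm.Kind.regular b iZ)
    (hcodim : ∀ w : ↥(pullback iY iZ), ((a + b : ℕ) : WithBot ℕ∞) ≤
      ringKrullDim (X.presheaf.stalk ((pullback.fst iY iZ ≫ iY).base w)))
    {U : X.Opens} (hU : IsAffineOpen U) (p : Ideal Γ(X, U)) [p.IsPrime]
    (hIp : RingHom.ker (iY.app U).hom ≤ p) (hJp : RingHom.ker (iZ.app U).hom ≤ p) :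
    ∃ ys zs : List (Localization.AtPrime p), ys.length = a ∧ zs.length = b ∧
      (RingHom.ker (iY.app U).hom).map (algebraMap Γ(X, U) (Localization.AtPrime p)) = Ideal.ofList ys ∧
      (RingHom.ker (iZ.app U).hom).map (algebraMap Γ(X, U) (Localization.AtPrime p)) = Ideal.ofList zs ∧
      IsWeaklyRegular (Localization.AtPrime p) ys ∧
      IsWeaklyRegular (Localization.AtPrime p) (zs ++ ys) := by
  have hstalk : ∀ (P : PrimeSpectrum Γ(X, U)), ∃ e : X.presheaf.stalk (hU.fromSpec P) ≃+* Localization.AtPrime P.asIdeal,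
      e.toRingHom.comp (X.presheaf.germ U _ (hU.range_fromSpec.le ⟨P, rfl⟩)).hom =
        algebraMap Γ(X, U) (Localization.AtPrime P.asIdeal) := fun P => by
    have hmem : hU.fromSpec P ∈ U := hU.range_fromSpec.le ⟨P, rfl⟩
    letI := TopCat.Presheaf.algebra_section_stalk X.presheaf (⟨hU.fromSpec P, hmem⟩ : U)
    haveI : IsLocalization.AtPrime (X.presheaf.stalk (hU.fromSpec P)) P.asIdeal := hU.isLocalization_stalk' P hmem
    let e := IsLocalization.algEquiv P.asIdeal.primeCompl (X.presheaf.stalk (hU.fromSpec P))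
      (Localization.AtPrime P.asIdeal)
    exact ⟨e.toRingEquiv, RingHom.ext fun a => e.commutes a⟩
  obtain ⟨e, he⟩ := hstalk ⟨p, inferInstance⟩
  have hxU : hU.fromSpec ⟨p, inferInstance⟩ ∈ U := hU.range_fromSpec.le ⟨_, rfl⟩
  obtain ⟨ys, hyl, hys⟩ := exists_stalk_seq iY hY hU hxU ((mem_range_iff iY hU _).2 hIp)
  obtain ⟨zs, hzl, hzs⟩ := exists_stalk_seq iZ hZ hU hxU ((mem_range_iff iZ hU _).2 hJp)
  haveI := hCM (hU.fromSpec ⟨p, inferInstance⟩)
  haveI : LocCoh.IsCohenMacaulayLocalRing (Localization.AtPrime p) := CMClosed.of_ringEquiv e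
  have hI : (RingHom.ker (iY.app U).hom).map (algebraMap Γ(X, U) (Localization.AtPrime p)) =
      Ideal.ofList (ys.map e.toRingHom) := by rw [← he, ← Ideal.map_map, hys, Ideal.map_ofList]
  have hJ : (RingHom.ker (iZ.app U).hom).map (algebraMap Γ(X, U) (Localization.AtPrime p)) =
      Ideal.ofList (zs.map e.toRingHom) := by rw [← he, ← Ideal.map_map, hzs, Ideal.map_ofList]
  have hmem : ∀ {K : Ideal Γ(X, U)}, K ≤ p → K.map (algebraMap Γ(X, U) (Localization.AtPrime p)) ≤
      maximalIdeal (Localization.AtPrime p) := fun hK =>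
    (Ideal.map_mono hK).trans Localization.AtPrime.map_eq_maximalIdeal.le
  have hreg : ∀ l : List (Localization.AtPrime p), l.length = a + b →
      Ideal.ofList l = (RingHom.ker (iY.app U).hom ⊔ RingHom.ker (iZ.app U).hom).map
        (algebraMap Γ(X, U) (Localization.AtPrime p)) → IsWeaklyRegular (Localization.AtPrime p) l := by
    intro l hlen hl
    refine isWeaklyRegular_of_le_height l (fun r hr => hmem (sup_le hIp hJp) (hl.le (Ideal.subset_span hr)))
      fun q hq hlq => ?_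
    rw [hl, Ideal.map_le_iff_le_comap, sup_le_iff] at hlq
    haveI := hq
    let Q : PrimeSpectrum Γ(X, U) := ⟨q.comap (algebraMap Γ(X, U) (Localization.AtPrime p)), inferInstance⟩
    obtain ⟨y, hy⟩ := (mem_range_iff iY hU Q).2 hlq.1
    obtain ⟨z, hz⟩ := (mem_range_iff iZ hU Q).2 hlq.2
    obtain ⟨w, hw, -⟩ := Scheme.Pullback.exists_preimage_pullback y z (hy.trans hz.symm)
    have h := hcodim w
    obtain ⟨eQ, -⟩ := hstalk Q
    rw [show (pullback.fst iY iZ ≫ iY).base w = hU.fromSpec Q by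
      rw [← hy, ← hw]; rfl, ringKrullDim_eq_of_ringEquiv eQ,
      IsLocalization.AtPrime.ringKrullDim_eq_height Q.asIdeal (Localization.AtPrime Q.asIdeal),
      IsLocalization.height_under p.primeCompl q] at h
    rw [hlen]
    exact_mod_cast h
  refine ⟨ys.map e.toRingHom, zs.map e.toRingHom, by simp [hyl], by simp [hzl], hI, hJ, ?_, ?_⟩
  · exact ((isWeaklyRegular_append_iff _ _ _).1 (hreg (ys.map e.toRingHom ++ zs.map e.toRingHom)
      (by simp [hyl, hzl]) (by rw [Ideal.ofList_append, Ideal.map_sup, hI, hJ]))).1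
  · exact hreg _ (by simp [hyl, hzl]; omega) (by rw [Ideal.ofList_append, Ideal.map_sup, hI, hJ, sup_comm])

/-- Tor independence from the local criterion. -/
theorem subsingleton_tor {A : Type u} [CommRing A] (I J : Ideal A) (i : ℕ) (hi : 0 < i)
    (h : ∀ (p : Ideal A) [p.IsPrime], I ≤ p → J ≤ p → ∃ ys zs : List (Localization.AtPrime p),
      I.map (algebraMap A (Localization.AtPrime p)) = Ideal.ofList ys ∧
      J.map (algebraMap A (Localization.AtPrime p)) = Ideal.ofList zs ∧
      IsWeaklyRegular (Localization.AtPrime p) ys ∧ IsWeaklyRegular (Localization.AtPrime p) (zs ++ ys)) :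
    Subsingleton (DRing.Tor A i (A ⧸ I) (A ⧸ J)) := by
  refine subsingleton_of_forall_eq 0 fun z => ?_
  by_contra hz
  obtain ⟨p, hp, hle⟩ := Ideal.exists_le_maximal _ (show (Submodule.span A {z}).annihilator ≠ ⊤ from fun htop => hz (by
    simpa using (Submodule.mem_annihilator_span_singleton z (1 : A)).1 (htop ▸ Submodule.mem_top)))
  have hk : ∀ a : A, a • z = 0 → a ∈ p := fun a ha => hle ((Submodule.mem_annihilator_span_singleton z a).2 ha)
  haveI := hp.isPrime
  have hIJ : I ⊔ J ≤ p := fun a ha => hk a (H23.ChiAdd.smul_tor_eq_zero (by rwa [Ideal.annihilator_quotient,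
    Ideal.annihilator_quotient]) i z)
  obtain ⟨ys, zs, hI, hJ, hy, hreg⟩ := h p (le_sup_left.trans hIJ) (le_sup_right.trans hIJ)
  let A' := Localization.AtPrime p
  haveI : Module.Flat A A' := IsLocalization.flat A' p.primeCompl
  obtain ⟨e⟩ := S2428.result A A' (A ⧸ I) (A ⧸ J) i
  let eI : TensorProduct A A' (A ⧸ I) ≃ₗ[A'] (A' ⧸ Ideal.ofList ys) :=
    (Algebra.TensorProduct.quotIdealMapEquivTensorQuot A' I).symm.toLinearEquiv.trans
      (Submodule.quotEquivOfEq _ _ hI)
  let eJ : TensorProduct A A' (A ⧸ J) ≃ₗ[A'] (A' ⧸ Ideal.ofList zs) :=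
    (Algebra.TensorProduct.quotIdealMapEquivTensorQuot A' J).symm.toLinearEquiv.trans
      (Submodule.quotEquivOfEq _ _ hJ)
  haveI := subsingleton_tor_of_isWeaklyRegular ys zs hy hreg i hi
  let eT := ((((Tor (ModuleCat.{u} A') i).mapIso eI.toModuleIso).app _) ≪≫
    (((Tor (ModuleCat.{u} A') i).obj _).mapIso eJ.toModuleIso)).toLinearEquiv
  haveI : Subsingleton (TensorProduct A A' (DRing.Tor A i (A ⧸ I) (A ⧸ J))) :=
    (e.trans eT).toEquiv.subsingleton
  have h1 : (1 : A') ⊗ₜ[A] z = 0 := Subsingleton.elim _ _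
  obtain ⟨s, hs⟩ := (IsLocalizedModule.eq_zero_iff p.primeCompl (TensorProduct.mk A A' _ 1)).1 h1
  exact s.2 (hk s hs)

end Groth.Agent.CMInter
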